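import Groth.Prelude.Def_DiffOp
import Mathlib.RingTheory.Kaehler.Basic
import Mathlib.Algebra.BigOperators.Fin
import Mathlib.Algebra.BigOperators.Group.Finset.Powerset
import Mathlib.Tactic.Abel
import Mathlib.Tactic.Module

namespace Groth.Agent.DiffOps

open scoped TensorProduct
open _root_.Diff16

universe u v

variable {A B : Type u} [CommRing A] [CommRing B] [Algebra A B]
variable {M N P : Type v} [AddCommGroup M] [Module A M] [Module B M] [IsScalarTower A B M]
  [AddCommGroup N] [Module A N] [Module B N] [IsScalarTower A B N]
  [AddCommGroup P] [Module A P] [Module B P] [IsScalarTower A B P]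

lemma commutator_apply (D : M →ₗ[A] N) (b : B) (m : M) :
    commutator A B M N D b m = D (b • m) - b • D m := rfl

lemma linear_iff_commutator_eq_zero (D : M →ₗ[A] N) :
    IsDiffOpLE A B M N 0 D ↔ ∀ b : B, commutator A B M N D b = 0 := by
  refine ⟨fun h b => LinearMap.ext fun m => ?_, fun h b m => ?_⟩
  · rw [commutator_apply, h b m, sub_self, LinearMap.zero_apply]
  · exact sub_eq_zero.1 (LinearMap.congr_fun (h b) m)

lemma isDiffOpLE_zero (n : ℕ) : IsDiffOpLE A B M N n (0 : M →ₗ[A] N) := by
  induction n with
  | zero => intro b m; simp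
  | succ n ih =>
    intro b
    have : commutator A B M N (0 : M →ₗ[A] N) b = 0 := LinearMap.ext fun m => by simp [commutator_apply]
    rwa [this]

lemma succ_of {D : M →ₗ[A] N} {n : ℕ} (h : IsDiffOpLE A B M N n D) :
    IsDiffOpLE A B M N (n + 1) D := by
  induction n generalizing D with
  | zero =>
    intro b
    rw [(linear_iff_commutator_eq_zero D).1 h b]
    exact isDiffOpLE_zero 0
  | succ n ihm => intro b; exact ihm (h b)

lemma mono {D : M →ₗ[A] N} {n n' : ℕ} (h : IsDiffOpLE A B M N n D) (hn : n ≤ n') :
    IsDiffOpLE A B M N n' D := by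
  induction hn with
  | refl => exact h
  | step _ ih => exact succ_of ih

lemma add {D D' : M →ₗ[A] N} {n : ℕ} (h : IsDiffOpLE A B M N n D) (h' : IsDiffOpLE A B M N n D') :
    IsDiffOpLE A B M N n (D + D') := by
  induction n generalizing D D' with
  | zero => intro b m; simp [h b m, h' b m]
  | succ n ih =>
    intro b
    have : commutator A B M N (D + D') b = commutator A B M N D b + commutator A B M N D' b :=
      LinearMap.ext fun m => by simp [commutator_apply, smul_add]; abel
    rw [this]; exact ih (h b) (h' b)

lemma smulB {D : M →ₗ[A] N} {n : ℕ} (c : B) (h : IsDiffOpLE A B M N n D) :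
    IsDiffOpLE A B M N n (c • D) := by
  induction n generalizing D with
  | zero => intro b m; simp [h b m, smul_comm c b]
  | succ n ih =>
    intro b
    have : commutator A B M N (c • D) b = c • commutator A B M N D b :=
      LinearMap.ext fun m => by simp [commutator_apply, smul_sub, smul_comm c b]
    rw [this]; exact ih (h b)

lemma commutator_comp (D : M →ₗ[A] N) (D' : N →ₗ[A] P) (b : B) :
    commutator A B M P (D' ∘ₗ D) b =
      commutator A B N P D' b ∘ₗ D + D' ∘ₗ commutator A B M N D b :=
  LinearMap.ext fun m => by simp [commutator_apply, map_sub]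

lemma comp {D : M →ₗ[A] N} {D' : N →ₗ[A] P} {n n' : ℕ}
    (h : IsDiffOpLE A B M N n D) (h' : IsDiffOpLE A B N P n' D') :
    IsDiffOpLE A B M P (n + n') (D' ∘ₗ D) := by
  generalize hk : n + n' = k
  induction k generalizing n n' D D' with
  | zero =>
    obtain ⟨rfl, rfl⟩ : n = 0 ∧ n' = 0 := by omega
    intro b m; simp [h b m, h' b (D m)]
  | succ k ih =>
    intro b
    rw [commutator_comp]
    refine add ?_ ?_
    · rcases n' with _ | j
      · rw [(linear_iff_commutator_eq_zero D').1 h' b, LinearMap.zero_comp]
        exact isDiffOpLE_zero k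
      · exact ih h (h' b) (by omega)
    · rcases n with _ | i
      · rw [(linear_iff_commutator_eq_zero D).1 h b, LinearMap.comp_zero]
        exact isDiffOpLE_zero k
      · exact ih (h b) h' (by omega)

variable (A M) in
/-- multiplication by `b` as an `A`-linear map -/
noncomputable def mulMap (b : B) : M →ₗ[A] M := (LinearMap.lsmul B M b).restrictScalars A

lemma mulMap_apply (b : B) (m : M) : mulMap A M b m = b • m := rfl

lemma isDiffOpLE_mulMap (b : B) : IsDiffOpLE A B M M 0 (mulMap A M b) := fun c m => by
  simp [mulMap_apply, smul_comm b c]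

lemma of_generators {s : Set B} (hs : Algebra.adjoin A s = ⊤) {n : ℕ} {D : M →ₗ[A] N}
    (hD : ∀ g ∈ s, IsDiffOpLE A B M N n (commutator A B M N D g)) :
    IsDiffOpLE A B M N (n + 1) D := by
  intro b
  have hb : b ∈ Algebra.adjoin A s := hs ▸ Algebra.mem_top
  induction hb using Algebra.adjoin_induction with
  | mem g hg => exact hD g hg
  | algebraMap a =>
    have : commutator A B M N D (algebraMap A B a) = 0 :=
      LinearMap.ext fun m => by simp [commutator_apply, algebraMap_smul]
    rw [this]; exact isDiffOpLE_zero n
  | add x y _ _ hx hy =>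
    have : commutator A B M N D (x + y) = commutator A B M N D x + commutator A B M N D y :=
      LinearMap.ext fun m => by simp [commutator_apply, add_smul]; abel
    rw [this]; exact add hx hy
  | mul x y _ _ hx hy =>
    have : commutator A B M N D (x * y) =
        commutator A B M N D x ∘ₗ mulMap A M y + x • commutator A B M N D y :=
      LinearMap.ext fun m => by simp [commutator_apply, mulMap_apply, mul_smul, smul_sub]
    rw [this]
    exact add (by simpa using comp (isDiffOpLE_mulMap y) hx) (smulB x hy)

/-- the alternating sum -/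
def altSum {n : ℕ} (D : M →ₗ[A] N) (b : Fin n → B) (t : M) : N :=
  ∑ H : Finset (Fin n), ((-1 : ℤ) ^ H.card) • ((∏ i ∈ H, b i) • D ((∏ i ∈ Hᶜ, b i) • t))

lemma sum_finset_fin_succ {G : Type*} [AddCommMonoid G] {n : ℕ} (F : Finset (Fin (n + 1)) → G) :
    ∑ H, F H = ∑ I : Finset (Fin n), (F (I.map (Fin.succEmb n)) + F (insert 0 (I.map (Fin.succEmb n)))) := by
  classical
  have hu : (Finset.univ : Finset (Fin (n + 1))) = insert 0 ((Finset.univ : Finset (Fin n)).map (Fin.succEmb n)) := by
    rw [Fin.univ_succ, Finset.cons_eq_insert]; rfl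
  have hmap : ((Finset.univ : Finset (Fin n)).map (Fin.succEmb n)).powerset =
      (Finset.univ : Finset (Fin n)).powerset.image (fun I => I.map (Fin.succEmb n)) := by
    rw [Finset.map_eq_image, Finset.powerset_image]; simp [Finset.map_eq_image]
  rw [← Finset.powerset_univ, hu, Finset.sum_powerset_insert (by simp), hmap,
    Finset.sum_image (fun x _ y _ e => Finset.map_injective _ e),
    Finset.sum_image (fun x _ y _ e => Finset.map_injective _ e),
    ← Finset.powerset_univ (α := Fin n), Finset.sum_add_distrib]

lemma altSum_commutator {n : ℕ} (D : M →ₗ[A] N) (b₀ : B) (b : Fin n → B) (t : M) :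
    altSum (commutator A B M N D b₀) b t = altSum D (Fin.cons b₀ b : Fin (n + 1) → B) t := by
  classical
  unfold altSum
  rw [sum_finset_fin_succ]
  refine Finset.sum_congr rfl fun I _ => ?_
  have c1 : (I.map (Fin.succEmb n))ᶜ = insert 0 (Iᶜ.map (Fin.succEmb n)) := by
    ext x; cases x using Fin.cases <;> simp [Fin.succ_ne_zero]
  have c2 : (insert 0 (I.map (Fin.succEmb n)))ᶜ = Iᶜ.map (Fin.succEmb n) := by
    rw [Finset.compl_insert, c1, Finset.erase_insert (by simp)]
  rw [c2, c1, Finset.prod_insert (by simp), Finset.prod_insert (by simp),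
    Finset.card_insert_of_notMem (by simp), Finset.card_map, Finset.prod_map, Finset.prod_map]
  simp only [Fin.coe_succEmb, Fin.cons_succ, Fin.cons_zero, commutator_apply, mul_smul, pow_succ,
    smul_sub, smul_comm b₀ (∏ i ∈ I, b i)]
  simp [sub_eq_add_neg]

lemma iff_altSum (n : ℕ) (D : M →ₗ[A] N) :
    IsDiffOpLE A B M N n D ↔ ∀ (b : Fin (n + 1) → B) (t : M), altSum D b t = 0 := by
  have base : ∀ (E : M →ₗ[A] N) (b : Fin 0 → B) (t : M), altSum E b t = E t := fun E b t => by
    rw [altSum, Fintype.sum_subsingleton _ (∅ : Finset (Fin 0))]; simp [Finset.eq_empty_of_isEmpty]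
  induction n generalizing D with
  | zero =>
    rw [linear_iff_commutator_eq_zero]
    constructor
    · intro h b t
      rw [← Fin.cons_self_tail b, ← altSum_commutator, base, h, LinearMap.zero_apply]
    · intro h b
      refine LinearMap.ext fun m => ?_
      rw [LinearMap.zero_apply, ← base _ Fin.elim0 m, altSum_commutator, h]
  | succ n ih =>
    constructor
    · intro h b t
      rw [← Fin.cons_self_tail b, ← altSum_commutator]
      exact (ih _).1 (h _) _ _
    · intro h b
      exact (ih _).2 fun b' t => by rw [altSum_commutator]; exact h _ _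

end Groth.Agent.DiffOps

namespace Groth.Agent.DiffOps

open scoped TensorProduct
open _root_.Diff16

universe w

variable {A B : Type w} [CommRing A] [CommRing B] [Algebra A B]
variable {N : Type w} [AddCommGroup N] [Module A N] [Module B N] [IsScalarTower A B N]

lemma linearize_delta_mul (D : B →ₗ[A] N) (b : B) (z : B ⊗[A] B) :
    linearize A B B N D (((1 : B) ⊗ₜ[A] b - b ⊗ₜ[A] (1 : B)) * z) =
      linearize A B B N (commutator A B B N D b) z := by
  induction z using TensorProduct.induction_on with
  | zero => simp
  | tmul x y =>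
    simp [sub_mul, linearize, commutator_apply, smul_sub, mul_smul, smul_comm x b]
  | add x y hx hy => simp only [mul_add, map_add, hx, hy]

lemma vanish_succ_iff (D : B →ₗ[A] N) (k : ℕ) :
    (∀ x ∈ (KaehlerDifferential.ideal A B) ^ (k + 1), linearize A B B N D x = 0) ↔
      ∀ b : B, ∀ x ∈ (KaehlerDifferential.ideal A B) ^ k, linearize A B B N (commutator A B B N D b) x = 0 := by
  constructor
  · intro h b x hx
    rw [← linearize_delta_mul]
    apply h
    rw [pow_succ']
    exact Ideal.mul_mem_mul (KaehlerDifferential.one_smul_sub_smul_one_mem_ideal A b) hx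
  · intro h x hx
    rw [pow_succ'] at hx
    refine Submodule.mul_induction_on hx ?_ (fun x y hx hy => by rw [map_add, hx, hy, add_zero])
    intro i hi y hy
    rw [← KaehlerDifferential.span_range_eq_ideal] at hi
    induction hi using Submodule.span_induction generalizing y with
    | mem i hi => obtain ⟨b, rfl⟩ := hi; rw [linearize_delta_mul]; exact h b y hy
    | zero => simp
    | add i j _ _ hi hj => rw [add_mul, map_add, hi y hy, hj y hy, add_zero]
    | smul c i _ hi =>
      rw [smul_eq_mul, mul_comm c i, mul_assoc]
      exact hi _ (Ideal.mul_mem_left _ c hy)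

lemma iff_vanish (n : ℕ) (D : B →ₗ[A] N) :
    IsDiffOpLE A B B N n D ↔
      ∀ x ∈ (KaehlerDifferential.ideal A B) ^ (n + 1), linearize A B B N D x = 0 := by
  induction n generalizing D with
  | zero =>
    rw [vanish_succ_iff, linear_iff_commutator_eq_zero]
    constructor
    · intro h b x _
      rw [h b]
      induction x using TensorProduct.induction_on with
      | zero => simp
      | tmul x y => simp [linearize]
      | add x y hx hy => rw [map_add, hx (by simp), hy (by simp), add_zero]
    · intro h b
      refine LinearMap.ext fun m => ?_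
      have := h b ((1 : B) ⊗ₜ[A] m) (by simp)
      simpa [linearize] using this
  | succ n ih =>
    rw [vanish_succ_iff]
    exact forall_congr' fun b => ih _

end Groth.Agent.DiffOps
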