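import Groth.Agent.Lib.Diff16.Basic
import Mathlib.RingTheory.Etale.Basic
import Mathlib.RingTheory.IsTensorProduct
import Mathlib.RingTheory.TensorProduct.Quotient

/-!
Differential operators along formally étale maps: existence and uniqueness of extensions to a base
change, and the module representing differential operators.
-/

namespace Groth.Agent.DiffOps

open scoped TensorProduct
open _root_.Diff16

universe u

variable {R S S' : Type u} [CommRing R] [CommRing S] [CommRing S'] [Algebra R S] [Algebra R S']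
  [Algebra S S'] [IsScalarTower R S S']
variable {M N : Type u} [AddCommGroup M] [Module S M] [Module R M] [IsScalarTower R S M]
  [AddCommGroup N] [Module S' N] [Module S N] [Module R N] [IsScalarTower R S N]
  [IsScalarTower R S' N] [IsScalarTower S S' N]

omit [IsScalarTower R S S'] in
lemma smul' {D : M →ₗ[R] N} {n : ℕ} (c : S') (h : IsDiffOpLE R S M N n D) :
    IsDiffOpLE R S M N n (c • D) := by
  induction n generalizing D with
  | zero => intro b m; simp [h b m, smul_comm c b]
  | succ n ih =>
    intro b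
    have : commutator R S M N (c • D) b = c • commutator R S M N D b :=
      LinearMap.ext fun m => by simp [commutator_apply, smul_sub, smul_comm c b]
    rw [this]; exact ih (h b)

section action

variable (R S M N)

/-- precomposition with multiplication by a scalar -/
noncomputable def preHom : S →ₐ[R] Module.End R (M →ₗ[R] N) :=
  AlgHom.ofLinearMap
    { toFun := fun s => LinearMap.lcomp R N (mulMap R M s)
      map_add' := fun s t => LinearMap.ext fun D => LinearMap.ext fun m => by
        simp [mulMap_apply, add_smul]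
      map_smul' := fun r s => LinearMap.ext fun D => LinearMap.ext fun m => by
        simp [mulMap_apply, smul_assoc] }
    (LinearMap.ext fun D => LinearMap.ext fun m => by simp [mulMap_apply])
    (fun s t => LinearMap.ext fun D => LinearMap.ext fun m => by
      simp [mulMap_apply, mul_smul, smul_comm s t])

variable (S')

/-- postcomposition with multiplication by a scalar -/
noncomputable def postHom : S' →ₐ[R] Module.End R (M →ₗ[R] N) :=
  Algebra.lsmul R R (M →ₗ[R] N)

/-- the action of `S ⊗[R] S'` on linear maps -/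
noncomputable def act : S ⊗[R] S' →ₐ[R] Module.End R (M →ₗ[R] N) :=
  Algebra.TensorProduct.lift (preHom R S M N) (postHom R S' M N) fun s c =>
    LinearMap.ext fun D => LinearMap.ext fun m => by simp [preHom, postHom, mulMap_apply]

/-- the multiplication -/
noncomputable def mult : S ⊗[R] S' →ₐ[S] S' :=
  Algebra.TensorProduct.lift (Algebra.ofId S S') (AlgHom.id R S') fun _ _ => Commute.all _ _

/-- the kernel of multiplication -/
noncomputable def diagI : Ideal (S ⊗[R] S') := RingHom.ker (mult R S S')

variable {R S S' M N}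

lemma act_tmul_apply (s : S) (c : S') (D : M →ₗ[R] N) (m : M) :
    act R S S' M N (s ⊗ₜ c) D m = c • D (s • m) := by
  simp [act, preHom, postHom, mulMap_apply]

lemma mult_tmul (s : S) (c : S') : mult R S S' (s ⊗ₜ c) = algebraMap S S' s * c := by
  simp [mult, Algebra.ofId_apply]

lemma act_preserves (z : S ⊗[R] S') {D : M →ₗ[R] N} {n : ℕ} (h : IsDiffOpLE R S M N n D) :
    IsDiffOpLE R S M N n (act R S S' M N z D) := by
  induction z using TensorProduct.induction_on with
  | zero => simpa using isDiffOpLE_zero n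
  | tmul s c =>
    have e : act R S S' M N (s ⊗ₜ c) D = c • (D ∘ₗ mulMap R M s) := LinearMap.ext fun m => by
      simp [act_tmul_apply, mulMap_apply]
    rw [e]
    exact smul' c (by simpa using comp (isDiffOpLE_mulMap s) h)
  | add x y hx hy => simpa using add hx hy

omit [Module S' N] [Module S N] in
lemma diagI_le_span : diagI R S S' ≤
    Ideal.span (Set.range fun s : S => s ⊗ₜ[R] (1 : S') - 1 ⊗ₜ algebraMap S S' s) := by
  intro z hz
  have key : ∀ w : S ⊗[R] S', w - (1 : S) ⊗ₜ[R] mult R S S' w ∈
      Ideal.span (Set.range fun s : S => s ⊗ₜ[R] (1 : S') - 1 ⊗ₜ algebraMap S S' s) := by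
    intro w
    induction w using TensorProduct.induction_on with
    | zero => simp
    | tmul s c =>
      have e : s ⊗ₜ[R] c - 1 ⊗ₜ mult R S S' (s ⊗ₜ c) =
          (1 ⊗ₜ c) * (s ⊗ₜ[R] (1 : S') - 1 ⊗ₜ algebraMap S S' s) := by
        simp [mul_sub, mult_tmul, mul_comm c]
      rw [e]
      exact Ideal.mul_mem_left _ _ (Ideal.subset_span ⟨s, rfl⟩)
    | add x y hx hy =>
      rw [map_add, TensorProduct.tmul_add, add_sub_add_comm]
      exact add_mem hx hy
  have := key z
  rwa [RingHom.mem_ker.mp hz, TensorProduct.tmul_zero, sub_zero] at this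

lemma act_lowers {z : S ⊗[R] S'} (hz : z ∈ diagI R S S') {n : ℕ} {D : M →ₗ[R] N}
    (h : IsDiffOpLE R S M N (n + 1) D) : IsDiffOpLE R S M N n (act R S S' M N z D) := by
  have hz' := diagI_le_span hz
  clear hz
  induction hz' using Submodule.span_induction with
  | mem x hx =>
    obtain ⟨s, rfl⟩ := hx
    have e : act R S S' M N (s ⊗ₜ[R] (1 : S') - 1 ⊗ₜ algebraMap S S' s) D
        = commutator R S M N D s := LinearMap.ext fun m => by
      simp [act_tmul_apply, commutator_apply, algebraMap_smul]
    rw [e]; exact h s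
  | zero => simpa using isDiffOpLE_zero n
  | add x y _ _ hx hy => simpa using add hx hy
  | smul a x _ hx => simpa [map_mul] using act_preserves a hx

lemma act_linear_eq_zero {z : S ⊗[R] S'} (hz : z ∈ diagI R S S') {D : M →ₗ[R] N}
    (h : IsDiffOpLE R S M N 0 D) : act R S S' M N z D = 0 := by
  have hz' := diagI_le_span hz
  clear hz
  induction hz' using Submodule.span_induction with
  | mem x hx =>
    obtain ⟨s, rfl⟩ := hx
    exact LinearMap.ext fun m => by simp [act_tmul_apply, algebraMap_smul, h s m]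
  | zero => simp
  | add x y _ _ hx hy => simp [hx, hy]
  | smul a x _ hx => simp [map_mul, hx]

lemma act_pow_eq_zero {n : ℕ} : ∀ {z : S ⊗[R] S'}, z ∈ diagI R S S' ^ (n + 1) →
    ∀ {D : M →ₗ[R] N}, IsDiffOpLE R S M N n D → act R S S' M N z D = 0 := by
  induction n with
  | zero => intro z hz D h; rw [zero_add, pow_one] at hz; exact act_linear_eq_zero hz h
  | succ n ih =>
    intro z hz D h
    rw [pow_succ] at hz
    induction hz using Submodule.mul_induction_on' with
    | mem_mul_mem x hx y hy => simp [map_mul, ih hx (act_lowers hy h)]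
    | add x _ y _ hx hy => simp [hx, hy]

end action

section thick

variable (R S S')

/-- the thickening of order `k` -/
abbrev Thick (k : ℕ) : Type u := (S ⊗[R] S') ⧸ (diagI R S S' ^ (k + 1))

/-- the image of the kernel of multiplication in the thickening -/
noncomputable def diagBar (k : ℕ) : Ideal (Thick R S S' k) :=
  (diagI R S S').map (Ideal.Quotient.mk _)

lemma diagBar_pow (k : ℕ) : diagBar R S S' k ^ (k + 1) = ⊥ := by
  rw [diagBar, ← Ideal.map_pow, Ideal.map_quotient_self]

variable {R S S'}

/-- the action of the thickening on a differential operator -/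
noncomputable def actBar {k : ℕ} (D : M →ₗ[R] N) (hD : IsDiffOpLE R S M N k D) :
    Thick R S S' k →ₗ[R] (M →ₗ[R] N) :=
  ((diagI R S S' ^ (k + 1)).restrictScalars R).liftQ
    ((act R S S' M N).toLinearMap.flip D) (fun z hz => act_pow_eq_zero hz hD) ∘ₗ
    (Submodule.Quotient.restrictScalarsEquiv R (diagI R S S' ^ (k + 1))).symm.toLinearMap

lemma actBar_mk {k : ℕ} (D : M →ₗ[R] N) (hD : IsDiffOpLE R S M N k D) (z : S ⊗[R] S') :
    actBar D hD (Ideal.Quotient.mk _ z) = act R S S' M N z D := rfl

lemma actBar_mk_mul {k : ℕ} (D : M →ₗ[R] N) (hD : IsDiffOpLE R S M N k D) (z : S ⊗[R] S')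
    (t : Thick R S S' k) :
    actBar D hD (Ideal.Quotient.mk _ z * t) = act R S S' M N z (actBar D hD t) := by
  obtain ⟨w, rfl⟩ := Ideal.Quotient.mk_surjective t
  rw [← map_mul, actBar_mk, actBar_mk, map_mul]; rfl

lemma exists_section [Algebra.FormallySmooth S S'] (k : ℕ) :
    ∃ ψ : S' →ₐ[S] Thick R S S' k,
      ∀ c : S', ψ c - Ideal.Quotient.mk _ ((1 : S) ⊗ₜ[R] c) ∈ diagBar R S S' k := by
  let μ : Thick R S S' k →ₐ[S] S' := Ideal.Quotient.liftₐ _ (mult R S S') fun z hz =>
    RingHom.mem_ker.mp (Ideal.pow_le_self (Nat.succ_ne_zero k) hz)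
  have hμ : ∀ z, μ (Ideal.Quotient.mk _ z) = mult R S S' z := fun z => rfl
  have hker : RingHom.ker μ ≤ diagBar R S S' k := by
    intro t ht
    obtain ⟨z, rfl⟩ := Ideal.Quotient.mk_surjective t
    exact Ideal.mem_map_of_mem _ (RingHom.mem_ker.mpr ((hμ z).symm.trans ht))
  have hsurj : Function.Surjective μ := fun c =>
    ⟨Ideal.Quotient.mk _ ((1 : S) ⊗ₜ c), by rw [hμ, mult_tmul, map_one, one_mul]⟩
  have hnil : IsNilpotent (RingHom.ker μ) :=
    ⟨k + 1, le_bot_iff.mp ((Ideal.pow_right_mono hker _).trans_eq (diagBar_pow R S S' k))⟩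
  refine ⟨Algebra.FormallySmooth.liftOfSurjective (AlgHom.id S S') μ hsurj hnil, fun c => hker ?_⟩
  rw [RingHom.mem_ker, map_sub, Algebra.FormallySmooth.liftOfSurjective_apply, hμ, mult_tmul,
    map_one, one_mul, AlgHom.id_apply, sub_self]

end thick

section existence

variable {k : ℕ} {D : M →ₗ[R] N} (hD : IsDiffOpLE R S M N k D) (ψ : S' →ₐ[S] Thick R S S' k)

/-- the bilinear map underlying the extension -/
noncomputable def extAdd (t : Thick R S S' k) : S' →+ M →+ N :=
  AddMonoidHom.mk' (fun c => (actBar D hD (t * ψ c)).toAddMonoidHom) fun a b => by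
    ext m; simp [mul_add]

/-- the extension -/
noncomputable def ext (t : Thick R S S' k) : S' ⊗[S] M →ₗ[R] N where
  toFun := TensorProduct.liftAddHom (extAdd hD ψ t) fun s c m => by
    show actBar D hD (t * ψ (s • c)) m = actBar D hD (t * ψ c) (s • m)
    have e : t * ψ (s • c) = Ideal.Quotient.mk _ (s ⊗ₜ[R] (1 : S')) * (t * ψ c) := by
      exact (congrArg (t * ·) ((map_smul ψ s c).trans (Algebra.smul_def s (ψ c)))).trans (mul_left_comm _ _ _)
    rw [e, actBar_mk_mul, act_tmul_apply, one_smul]
  map_add' := map_add _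
  map_smul' r x := by
    simp only [RingHom.id_apply]
    induction x using TensorProduct.induction_on with
    | zero => simp
    | tmul c m =>
      rw [TensorProduct.smul_tmul']
      show actBar D hD (t * ψ (r • c)) m = r • actBar D hD (t * ψ c) m
      rw [show ψ (r • c) = r • ψ c from LinearMap.map_smul_of_tower ψ.toLinearMap r c,
        mul_smul_comm, map_smul, LinearMap.smul_apply]
    | add x y hx hy => rw [smul_add, map_add, map_add, smul_add, hx, hy]

lemma ext_tmul (t : Thick R S S' k) (c : S') (m : M) :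
    ext hD ψ t (c ⊗ₜ m) = actBar D hD (t * ψ c) m := rfl

lemma commutator_ext (t : Thick R S S' k) (c : S') :
    commutator R S' (S' ⊗[S] M) N (ext hD ψ t) c =
      ext hD ψ (t * (ψ c - Ideal.Quotient.mk _ ((1 : S) ⊗ₜ[R] c))) := by
  refine LinearMap.ext fun x => ?_
  induction x using TensorProduct.induction_on with
  | zero => simp
  | tmul x m =>
    rw [commutator_apply, TensorProduct.smul_tmul', ext_tmul, ext_tmul, ext_tmul, smul_eq_mul,
      map_mul ψ c x, mul_sub, sub_mul, map_sub, LinearMap.sub_apply,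
      mul_comm t (Ideal.Quotient.mk _ _), mul_assoc (Ideal.Quotient.mk _ _), actBar_mk_mul,
      act_tmul_apply, one_smul, mul_assoc]
  | add x y hx hy => rw [map_add, map_add, hx, hy]

lemma ext_isDiffOpLE (hψ : ∀ c : S', ψ c - Ideal.Quotient.mk _ ((1 : S) ⊗ₜ[R] c) ∈ diagBar R S S' k) :
    ∀ (n j : ℕ) (t : Thick R S S' k), j + n = k → t ∈ diagBar R S S' k ^ j →
      IsDiffOpLE R S' (S' ⊗[S] M) N n (ext hD ψ t) := by
  intro n
  induction n with
  | zero =>
    intro j t hj ht
    rw [linear_iff_commutator_eq_zero]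
    intro c
    have h0 : t * (ψ c - Ideal.Quotient.mk _ ((1 : S) ⊗ₜ[R] c)) = 0 := by
      have := Ideal.mul_mem_mul ht (hψ c)
      rw [← Submodule.pow_succ, show diagBar R S S' k ^ (j + 1) = ⊥ by
        rw [show j + 1 = k + 1 by omega]; exact diagBar_pow R S S' k] at this
      exact Ideal.mem_bot.mp this
    rw [commutator_ext, h0]
    refine LinearMap.ext fun x => ?_
    induction x using TensorProduct.induction_on with
    | zero => simp
    | tmul x m => simp [ext_tmul]
    | add x y hx hy => rw [map_add, hx, hy, map_add]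
  | succ n ih =>
    intro j t hj ht c
    rw [commutator_ext]
    exact ih (j + 1) _ (by omega)
      ((pow_succ (diagBar R S S' k) j).symm ▸ Ideal.mul_mem_mul ht (hψ c))

end existence

lemma exists_ext_tensor [Algebra.FormallySmooth S S'] {k : ℕ} {D : M →ₗ[R] N}
    (hD : IsDiffOpLE R S M N k D) :
    ∃ E : S' ⊗[S] M →ₗ[R] N, IsDiffOpLE R S' (S' ⊗[S] M) N k E ∧
      ∀ m : M, E (1 ⊗ₜ m) = D m := by
  obtain ⟨ψ, hψ⟩ := exists_section (R := R) (S := S) (S' := S') k
  refine ⟨ext hD ψ 1, ext_isDiffOpLE hD ψ hψ k 0 1 (by omega)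
    (by rw [Submodule.pow_zero, Ideal.one_eq_top]; exact Submodule.mem_top), fun m => ?_⟩
  rw [ext_tmul, map_one, one_mul, ← map_one (Ideal.Quotient.mk (diagI R S S' ^ (k + 1))),
    actBar_mk, map_one, Module.End.one_apply]

section

variable {M' : Type u} [AddCommGroup M'] [Module S' M'] [Module S M'] [Module R M']
  [IsScalarTower R S M'] [IsScalarTower R S' M'] [IsScalarTower S S' M']

lemma exists_ext [Algebra.FormallySmooth S S'] {f : M →ₗ[S] M'} (hf : IsBaseChange S' f) {k : ℕ}
    {D : M →ₗ[R] N} (hD : IsDiffOpLE R S M N k D) :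
    ∃ E : M' →ₗ[R] N, IsDiffOpLE R S' M' N k E ∧ ∀ m : M, E (f m) = D m := by
  obtain ⟨E, hE, hE'⟩ := exists_ext_tensor (S' := S') hD
  refine ⟨E ∘ₗ hf.equiv.symm.toLinearMap.restrictScalars R, ?_, fun m => ?_⟩
  · have h0 : IsDiffOpLE R S' M' (S' ⊗[S] M) 0 (hf.equiv.symm.toLinearMap.restrictScalars R) :=
      fun b x => by simp
    simpa using comp h0 hE
  · simp [hf.equiv_symm_apply, hE']

omit [IsScalarTower R S S'] in
lemma restrict_comp (f : M →ₗ[S] M') {k : ℕ} {E : M' →ₗ[R] N}
    (hE : IsDiffOpLE R S' M' N k E) : IsDiffOpLE R S M N k (E ∘ₗ f.restrictScalars R) := by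
  induction k generalizing E with
  | zero =>
    intro b m
    show E (f (b • m)) = b • E (f m)
    rw [map_smul f, ← algebraMap_smul S' b (f m), hE, algebraMap_smul]
  | succ k ih =>
    intro b
    have : commutator R S M N (E ∘ₗ f.restrictScalars R) b =
        commutator R S' M' N E (algebraMap S S' b) ∘ₗ f.restrictScalars R :=
      LinearMap.ext fun m => by simp [commutator_apply, algebraMap_smul]
    rw [this]; exact ih (hE _)

end

section uniqueness

variable {M' : Type u} [AddCommGroup M'] [Module S' M'] [Module S M'] [Module R M']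
  [IsScalarTower R S M'] [IsScalarTower R S' M'] [IsScalarTower S S' M']

lemma isDiffOpLE_base {n : ℕ} {G : M' →ₗ[S] N}
    (h : IsDiffOpLE R S' M' N n (G.restrictScalars R)) : IsDiffOpLE S S' M' N n G := by
  induction n generalizing G with
  | zero => exact h
  | succ n ih => intro b; exact ih (h b)

omit [Module R N] [Module R M'] [IsScalarTower R S N] [IsScalarTower R S' N] [IsScalarTower R S M']
  [IsScalarTower R S' M'] [Algebra R S] [Algebra R S'] [IsScalarTower R S S'] in
lemma linear_of_unramified [Algebra.FormallyUnramified S S'] {n : ℕ} {G : M' →ₗ[S] N}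
    (h : IsDiffOpLE S S' M' N n G) (c : S') (x : M') : G (c • x) = c • G x := by
  let g₁ : S' →ₐ[S] Thick S S' S' n :=
    (Ideal.Quotient.mkₐ S _).comp (Algebra.TensorProduct.includeLeft)
  let g₂ : S' →ₐ[S] Thick S S' S' n :=
    (Ideal.Quotient.mkₐ S _).comp (Algebra.TensorProduct.includeRight)
  have hg : g₁ = g₂ := by
    refine Algebra.FormallyUnramified.ext (I := diagBar S S' S' n) ⟨n + 1, diagBar_pow S S' S' n⟩
      fun y => ?_
    refine (Ideal.Quotient.mk_eq_mk_iff_sub_mem _ _).mpr ?_
    show Ideal.Quotient.mk _ (y ⊗ₜ[S] (1 : S')) - Ideal.Quotient.mk _ ((1 : S') ⊗ₜ[S] y) ∈ _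
    rw [← map_sub]
    refine Ideal.mem_map_of_mem _ (RingHom.mem_ker.mpr ?_)
    simp [mult_tmul]
  have hc := DFunLike.congr_fun hg c
  have := congrArg (fun t => actBar G h t x) hc
  simpa [g₁, g₂, actBar_mk, act_tmul_apply] using this

theorem eq_zero_of_formallyUnramified [Algebra.FormallyUnramified S S'] {f : M →ₗ[S] M'}
    (hf : IsBaseChange S' f) {n : ℕ} {G : M' →ₗ[R] N} (hG : IsDiffOpLE R S' M' N n G)
    (h0 : ∀ m, G (f m) = 0) : G = 0 := by
  have fin : ∀ G : M' →ₗ[R] N, (∀ (b : S') (x : M'), G (b • x) = b • G x) → (∀ m, G (f m) = 0) →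
      G = 0 := by
    intro G hl h0
    refine LinearMap.ext fun x => ?_
    obtain ⟨z, rfl⟩ := hf.equiv.surjective x
    induction z using TensorProduct.induction_on with
    | zero => simp
    | tmul c m => simp [hf.equiv_tmul, hl, h0]
    | add a b ha hb => rw [map_add, map_add, ha, hb, map_add]
  induction n generalizing G with
  | zero => exact fin G hG h0
  | succ n ih =>
    have hs : ∀ (s : S) (x : M'), G (s • x) = s • G x := fun s x => by
      have h1 : commutator R S' M' N G (algebraMap S S' s) = 0 := ih (hG _) fun m => by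
        rw [commutator_apply, algebraMap_smul, algebraMap_smul, ← map_smul f, h0, h0, smul_zero,
          sub_zero]
      have := LinearMap.congr_fun h1 x
      simpa [commutator_apply, algebraMap_smul, sub_eq_zero] using this
    let GS : M' →ₗ[S] N := { toFun := G, map_add' := map_add G, map_smul' := hs }
    have hGS : IsDiffOpLE S S' M' N (n + 1) GS := isDiffOpLE_base (R := R) (G := GS) hG
    have hl : ∀ (b : S') (x : M'), GS (b • x) = b • GS x := linear_of_unramified (G := GS) hGS
    exact fin G hl h0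

end uniqueness

section universal

variable (R S M)

/-- the relations defining principal parts -/
noncomputable def ppRel (k : ℕ) (p : (Fin (k + 1) → S) × M) : S ⊗[R] M :=
  ∑ H : Finset (Fin (k + 1)),
    ((-1 : ℤ) ^ H.card) • ((∏ i ∈ H, p.1 i) ⊗ₜ[R] ((∏ i ∈ Hᶜ, p.1 i) • p.2))

variable {R S M}

omit [Algebra R S'] [Algebra S S'] [IsScalarTower R S S'] [Module S' N] [IsScalarTower R S' N]
  [IsScalarTower S S' N] in
lemma map_ppRel (k : ℕ) (p : (Fin (k + 1) → S) × M) (D : M →ₗ[R] N) (α : S ⊗[R] M →ₗ[S] N)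
    (hα : ∀ m, α (1 ⊗ₜ m) = D m) : α (ppRel R S M k p) = altSum D p.1 p.2 := by
  rw [ppRel, altSum, map_sum]
  refine Finset.sum_congr rfl fun H _ => ?_
  have e : (∏ i ∈ H, p.1 i) ⊗ₜ[R] ((∏ i ∈ Hᶜ, p.1 i) • p.2) =
      (∏ i ∈ H, p.1 i) • ((1 : S) ⊗ₜ[R] ((∏ i ∈ Hᶜ, p.1 i) • p.2)) := by
    rw [TensorProduct.smul_tmul', smul_eq_mul, mul_one]
  rw [e, ← hα, ← α.map_smul (∏ i ∈ H, p.1 i)]
  exact map_zsmul α.toAddMonoidHom _ _

end universal

end Groth.Agent.DiffOps
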