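import Groth.Agent.Lib.Diff16.Basic
import Mathlib.LinearAlgebra.Basis.Basic
import Mathlib.Algebra.BigOperators.Pi

namespace Groth.Agent.DiffOps

open scoped TensorProduct
open _root_.Diff16

universe u v

variable {A B : Type u} [CommRing A] [CommRing B] [Algebra A B]
variable {M N : Type v} [AddCommGroup M] [Module A M] [Module B M] [IsScalarTower A B M]
  [AddCommGroup N] [Module A N] [Module B N] [IsScalarTower A B N]

lemma commutator_comm (E : M →ₗ[A] N) (b c : B) :
    commutator A B M N (commutator A B M N E b) c = commutator A B M N (commutator A B M N E c) b :=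
  LinearMap.ext fun m => by
    simp [commutator_apply, smul_sub, smul_comm b c]; abel

/-- If the differentials of `z` span `Ω`, an operator of finite order commuting with all `z i` is linear. -/
lemma linear_of_commutes {ι : Type*} (z : ι → B)
    (hz : Submodule.span B (Set.range fun i => KaehlerDifferential.D A B (z i)) = ⊤)
    {n : ℕ} {E : M →ₗ[A] N} (h : IsDiffOpLE A B M N n E)
    (hc : ∀ i, commutator A B M N E (z i) = 0) : IsDiffOpLE A B M N 0 E := by
  induction n generalizing E with
  | zero => exact h
  | succ n ih =>
    have hlin : ∀ b, IsDiffOpLE A B M N 0 (commutator A B M N E b) := fun b =>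
      ih (h b) fun i => by
        rw [commutator_comm, hc i]
        exact LinearMap.ext fun m => by simp [commutator_apply]
    rw [linear_iff_commutator_eq_zero]
    let L : B →ₗ[A] (M →ₗ[B] N) :=
      { toFun := fun b => { toFun := commutator A B M N E b
                            map_add' := map_add _
                            map_smul' := fun c m => hlin b c m }
        map_add' := fun x y => LinearMap.ext fun m => by simp [commutator_apply, add_smul]; abel
        map_smul' := fun a x => LinearMap.ext fun m => by
          simp [commutator_apply, smul_assoc, smul_sub] }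
    let δ : Derivation A B (M →ₗ[B] N) :=
      { toLinearMap := L
        map_one_eq_zero' := LinearMap.ext fun m => by simp [L, commutator_apply]
        leibniz' := fun x y => LinearMap.ext fun m => by
          show commutator A B M N E (x * y) m =
            x • commutator A B M N E y m + y • commutator A B M N E x m
          rw [← hlin x y m]
          simp [commutator_apply, mul_smul, smul_sub] }
    have h0 : δ.liftKaehlerDifferential = 0 := by
      refine LinearMap.ext_on_range hz fun i => ?_
      rw [Derivation.liftKaehlerDifferential_comp_D, LinearMap.zero_apply]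
      exact LinearMap.ext fun m => LinearMap.congr_fun (hc i) m
    intro b
    have : δ b = 0 := by
      rw [← Derivation.liftKaehlerDifferential_comp_D δ b, h0, LinearMap.zero_apply]
    exact LinearMap.ext fun m => LinearMap.congr_fun this m

/-- monomial -/
abbrev mon {n : ℕ} (z : Fin n → B) (r : Fin n → ℕ) : B := ∏ i, z i ^ r i

lemma mon_mul {n : ℕ} (z : Fin n → B) (r : Fin n → ℕ) (i : Fin n) :
    z i * mon z r = mon z (r + Pi.single i 1) := by
  simp only [mon, Pi.add_apply, pow_add, Finset.prod_mul_distrib]
  rw [Finset.prod_eq_single i (f := fun j => z j ^ (Pi.single i 1 : Fin n → ℕ) j)]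
  · simp [mul_comm]
  · intro j _ hj; simp [hj]
  · simp

lemma eq_zero_of_mon {n : ℕ} (z : Fin n → B)
    (hz : Submodule.span B (Set.range fun i => KaehlerDifferential.D A B (z i)) = ⊤)
    {P : Type u} [AddCommGroup P] [Module A P] [Module B P] [IsScalarTower A B P]
    {k : ℕ} {E : B →ₗ[A] P} (h : IsDiffOpLE A B B P k E) (h0 : ∀ r, E (mon z r) = 0) : E = 0 := by
  have fin : ∀ {E : B →ₗ[A] P}, IsDiffOpLE A B B P 0 E → E (mon z 0) = 0 → E = 0 := by
    intro E hE he
    refine LinearMap.ext fun b => ?_
    have := hE b 1
    simp [mon] at he
    simpa [he] using this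
  induction k generalizing E with
  | zero => exact fin h (h0 0)
  | succ k ih =>
    refine fin (linear_of_commutes z hz h fun i => ih (h (z i)) fun r => ?_) (h0 0)
    rw [commutator_apply, smul_eq_mul, mon_mul, h0, h0, smul_zero, sub_zero]

end Groth.Agent.DiffOps
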